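/-
Signed permutations of the coordinate frame as data: products, the sextet map, and separation of
subgroups generated by monomial elements.

Main results: `Mon.mul`, `Mon.eq`, `mon_co0El`, `xi_slide`, `sep_sound`.
-/
import Cfsg.Agent.Lib.Co2Centralizer.Elements
import Cfsg.Agent.Lib.Golay.Generators

set_option autoImplicit false

open Cfsg Cfsg.Agent.Leech

namespace Cfsg.Agent.Co2Mult

/-- A number with prescribed blocks of five bits. -/
def packF (f : ℕ → ℕ) : ℕ := (List.range 24).foldr (fun i acc => f i + 32 * acc) 0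

/-- A number with prescribed bits. -/
def bitsOf (f : ℕ → Bool) : ℕ → ℕ
  | 0 => 0
  | k + 1 => (bif f k then 1 <<< k else 0) ||| bitsOf f k

theorem testBit_bitsOf (f : ℕ → Bool) : ∀ n i,
    (bitsOf f n).testBit i = (decide (i < n) && f i)
  | 0, i => by simp [bitsOf]
  | n + 1, i => by
    rw [bitsOf, Nat.testBit_or, testBit_bitsOf f n i]
    rcases lt_trichotomy i n with h | rfl | h
    · cases f n <;> simp [Nat.one_shiftLeft, h, show i < n + 1 by omega, h.ne']
    · cases f i <;> simp [Nat.one_shiftLeft]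
    · cases f n <;> simp [Nat.one_shiftLeft, show ¬ i < n + 1 by omega, show ¬ i < n by omega, h.ne]

/-- The product of two signed permutations, the signs indexed by the argument. -/
def mulD (x y : ℕ × ℕ) : ℕ × ℕ :=
  (packF fun i => Golay.fn x.1 (Golay.fn y.1 i),
    bitsOf (fun i => x.2.testBit (Golay.fn y.1 i)) 24 ^^^ y.2)

/-- The identity. -/
def oneD : ℕ × ℕ := (packF id, 0)

/-- The product of a word. -/
def wordD (L : List (ℕ × ℕ)) (w : List ℕ) : ℕ × ℕ :=
  w.foldr (fun i acc => mulD (L.getD i oneD) acc) oneD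

theorem fn_lt_32 (d i : ℕ) : Golay.fn d i < 32 := by
  have : (d >>> (5 * i)) &&& 31 ≤ 31 := Nat.and_le_right
  rw [Golay.fn]; omega

theorem fn_packF (f : ℕ → ℕ) (hf : ∀ i < 24, f i < 32) {i : ℕ} (hi : i < 24) :
    Golay.fn (packF f) i = f i :=
  Golay.fn_foldr f hf hi

attribute [local irreducible] packF bitsOf Golay.fn

/-- The element acts on the frame as the datum says. -/
def Mon (g : Co0) (x : ℕ × ℕ) : Prop :=
  ∀ i < 24, Golay.fn x.1 i < 24 ∧
    g • eightVec (Golay.pt i) =
      (if x.2.testBit i then (-1 : ℤ) else 1) • eightVec (Golay.pt (Golay.fn x.1 i))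

theorem Mon.mul {g h : Co0} {x y : ℕ × ℕ} (hg : Mon g x) (hh : Mon h y) :
    Mon (g * h) (mulD x y) := by
  intro i hi
  obtain ⟨h1, h2⟩ := hh i hi
  obtain ⟨h3, h4⟩ := hg _ h1
  have hfn : Golay.fn (mulD x y).1 i = Golay.fn x.1 (Golay.fn y.1 i) :=
    fn_packF _ (fun j _ => fn_lt_32 _ _) hi
  refine ⟨lt_of_eq_of_lt hfn h3, ?_⟩
  rw [hfn, mul_smul, h2, smul_zsmul, h4, ← mul_smul]
  refine congrArg (fun c : ℤ => c • eightVec (Golay.pt (Golay.fn x.1 (Golay.fn y.1 i)))) ?_
  have hb : (mulD x y).2.testBit i = (x.2.testBit (Golay.fn y.1 i) ^^ y.2.testBit i) := by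
    rw [mulD, Nat.testBit_xor, testBit_bitsOf, decide_eq_true hi, Bool.true_and]
  rw [hb]
  cases x.2.testBit (Golay.fn y.1 i) <;> cases y.2.testBit i <;> norm_num

theorem Mon.one : Mon 1 oneD := by
  intro i hi
  have e : Golay.fn oneD.1 i = i := fn_packF id (fun j hj => by simp only [id]; omega) hi
  refine ⟨lt_of_eq_of_lt e hi, ?_⟩
  rw [e, one_smul]
  simp [oneD]

theorem Mon.eq {g h : Co0} {x : ℕ × ℕ} (hg : Mon g x) (hh : Mon h x) : g = h :=
  ext_frame fun p => by
    rw [← Golay.pt_idx p, (hg _ (Golay.idx_lt p)).2, (hh _ (Golay.idx_lt p)).2]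

/-- A pair made of a coded permutation and a sign set gives a monomial element. -/
def okA (a : ℕ × ℕ) : Bool := Golay.isAut a.1 && Golay.isCode a.2

/-- The monomial element of a pair. -/
noncomputable def co0El (a : ℕ × ℕ) : Co0 :=
  if h : okA a = true then
    mono (Golay.toPerm a.1) (Golay.toPerm_mem_M24 (Bool.and_eq_true_iff.1 h).1) (Golay.pts a.2)
      ((Golay.pts_mem_supports_iff (Golay.lt_of_isCode (Bool.and_eq_true_iff.1 h).2)).2
        (Bool.and_eq_true_iff.1 h).2)
  else 1

/-- The datum of a pair. -/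
def lane (a : ℕ × ℕ) : ℕ × ℕ := (a.1, bitsOf (fun i => a.2.testBit (Golay.fn a.1 i)) 24)

theorem mon_mono {d c : ℕ} (hd : Golay.validPerm d = true) (hm : Golay.toPerm d ∈ M24)
    (hc : Golay.pts c ∈ supports (golayCode : Set (GolayPt → ZMod 2))) :
    Mon (mono (Golay.toPerm d) hm (Golay.pts c) hc) (lane (d, c)) := by
  intro i hi
  have hlt : Golay.fn d i < 24 := Golay.fn_lt_of_valid hd hi
  refine ⟨hlt, Subtype.ext ?_⟩
  rw [vec_mono, AddSubgroup.coe_zsmul, coe_eightVec, coe_eightVec, signedPerm_single,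
    Golay.toPerm_pt hd hi]
  simp only [lane, testBit_bitsOf, hi, decide_true, Bool.true_and, Golay.mem_pts, Golay.idx_pt hlt]
  cases c.testBit (Golay.fn d i) <;> simp [← Pi.single_neg]

theorem mon_co0El {a : ℕ × ℕ} (h : okA a = true) : Mon (co0El a) (lane a) := by
  rw [co0El, dif_pos h]
  exact mon_mono (Golay.validPerm_of_isAut (Bool.and_eq_true_iff.1 h).1) _ _

theorem co0El_fix {a : ℕ × ℕ} (h : okA a = true) (v : leechLattice)
    (hv : ∀ k < 24, (v : GolayPt → ℤ) (Golay.pt (Golay.fn a.1 k)) =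
      if a.2.testBit (Golay.fn a.1 k) then -(v : GolayPt → ℤ) (Golay.pt k)
      else (v : GolayPt → ℤ) (Golay.pt k)) : co0El a • v = v := by
  have hd := Golay.validPerm_of_isAut (Bool.and_eq_true_iff.1 h).1
  rw [co0El, dif_pos h]
  refine Subtype.ext ?_
  rw [vec_mono]
  funext p
  obtain ⟨q, rfl⟩ := (Golay.toPerm a.1).surjective p
  have e := hv _ (Golay.idx_lt q)
  rw [← Golay.idx_toPerm hd, Golay.pt_idx, Golay.pt_idx] at e
  simp only [signedPerm, Equiv.symm_apply_apply, Golay.mem_pts, e]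

/-- The pair fixes `Spor.vecU`. -/
def okU (a : ℕ × ℕ) : Bool :=
  okA a && (List.range 24).all fun k =>
    Spor.vecU (Golay.pt (Golay.fn a.1 k)) ==
      if a.2.testBit (Golay.fn a.1 k) then -Spor.vecU (Golay.pt k) else Spor.vecU (Golay.pt k)

/-- The stabiliser of the short vector. -/
abbrev CU : Type := MulAction.stabilizer Co0 Spor.leechU

/-- The monomial element of a pair in the stabiliser. -/
noncomputable def cuEl (a : ℕ × ℕ) : CU :=
  if h : okU a = true then
    ⟨co0El a, co0El_fix (Bool.and_eq_true_iff.1 h).1 _ fun k hk =>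
      beq_iff_eq.1 (List.all_eq_true.1 (Bool.and_eq_true_iff.1 h).2 k (List.mem_range.2 hk))⟩
  else 1

theorem mon_cuEl {a : ℕ × ℕ} (h : okU a = true) : Mon (cuEl a : Co0) (lane a) := by
  rw [cuEl, dif_pos h]
  exact mon_co0El (Bool.and_eq_true_iff.1 h).1

/-! ### The sextet map -/

/-- The sign as an integer. -/
def sgnI (b : Bool) : ℤ := bif b then -1 else 1

/-- The two data are conjugate under the sextet map. -/
def slideOK (x y : ℕ × ℕ) : Bool :=
  (List.range 24).all fun l => (List.range 24).any fun j => Golay.fn y.1 j == l &&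
    (List.range 24).all fun i =>
      sgnI (x.2.testBit i) *
          Co2Centralizer.xiMat (Golay.pt l) (Golay.pt (Golay.fn x.1 i)) ==
        sgnI (y.2.testBit j) * Co2Centralizer.xiMat (Golay.pt j) (Golay.pt i)

theorem dotInt_single (v : GolayPt → ℤ) (p : GolayPt) (c : ℤ) :
    dotInt v (Pi.single p c) = c * v p := by
  rw [dotInt, Finset.sum_eq_single p (fun q _ hq => by rw [Pi.single_eq_of_ne hq, mul_zero])
    (by simp), Pi.single_eq_same, mul_comm]

theorem Mon.coord {g : Co0} {x : ℕ × ℕ} (hg : Mon g x) {j : ℕ} (hj : j < 24) (v : leechLattice) :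
    ((g • v : leechLattice) : GolayPt → ℤ) (Golay.pt (Golay.fn x.1 j)) =
      sgnI (x.2.testBit j) * (v : GolayPt → ℤ) (Golay.pt j) := by
  obtain ⟨-, h⟩ := hg j hj
  have e := dotInt_smul g v (eightVec (Golay.pt j))
  rw [h, AddSubgroup.coe_zsmul, coe_eightVec, coe_eightVec, Leech.dotInt_smul_right, dotInt_single,
    dotInt_single] at e
  cases hb : x.2.testBit j <;> simp only [hb, sgnI, cond_true, cond_false, if_true, if_false,
    Bool.false_eq_true] at e ⊢ <;> omega

theorem xiFun_eightVec (p l : GolayPt) :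
    Co2Centralizer.xiFun (Pi.single p 8) l = 4 * Co2Centralizer.xiMat l p := by
  rw [Co2Centralizer.xiFun, Co2Centralizer.xiTwo,
    Finset.sum_eq_single p (fun q _ hq => by rw [Pi.single_eq_of_ne hq, mul_zero]) (by simp),
    Pi.single_eq_same]
  omega

theorem xi_slide {g h : Co0} {x y : ℕ × ℕ} (hg : Mon g x) (hh : Mon h y)
    (hok : slideOK x y = true) : Co2Centralizer.xiEl * g = h * Co2Centralizer.xiEl := by
  refine ext_frame fun p => Subtype.ext (funext fun q => ?_)
  obtain ⟨hk, hgk⟩ := hg _ (Golay.idx_lt p)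
  simp only [slideOK, List.all_eq_true, List.mem_range, List.any_eq_true, Bool.and_eq_true,
    beq_iff_eq] at hok
  obtain ⟨j, hj, hjl, hall⟩ := hok _ (Golay.idx_lt q)
  have e1 := hh.coord hj (Co2Centralizer.xiEl • eightVec (Golay.pt (Golay.idx p)))
  rw [hjl, Golay.pt_idx, Golay.pt_idx, Co2Centralizer.vec_xiEl, coe_eightVec, xiFun_eightVec] at e1
  rw [Golay.pt_idx] at hgk
  have e2 := hall _ (Golay.idx_lt p)
  rw [Golay.pt_idx, Golay.pt_idx] at e2
  rw [mul_smul, mul_smul, e1, hgk, smul_zsmul, AddSubgroup.coe_zsmul, Pi.smul_apply,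
    Co2Centralizer.vec_xiEl, coe_eightVec, xiFun_eightVec, smul_eq_mul,
    show (if x.2.testBit (Golay.idx p) then (-1 : ℤ) else 1) = sgnI (x.2.testBit (Golay.idx p)) by
      cases x.2.testBit (Golay.idx p) <;> rfl]
  linear_combination 4 * e2

/-! ### Separation -/

/-- The parity of common bits. -/
def par (f a : ℕ) : ℕ → Bool
  | 0 => false
  | k + 1 => (f.testBit k && a.testBit k) ^^ par f a k

theorem par_xor (f a b : ℕ) : ∀ n, par f (a ^^^ b) n = (par f a n ^^ par f b n)
  | 0 => rfl
  | n + 1 => by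
    simp only [par, par_xor f a b n, Nat.testBit_xor]
    cases f.testBit n <;> cases a.testBit n <;> cases b.testBit n <;> cases par f a n <;>
      cases par f b n <;> rfl

/-- The datum lies in the set of a table. -/
def inTab (T : List (ℕ × ℕ)) (fs : List ℕ) (x : ℕ × ℕ) : Bool :=
  T.any fun E => E.1 == x.1 && fs.all fun f => !par f (x.2 ^^^ E.2) 24

/-- The table contains the identity, is closed under the letters after `i` and avoids the `i`th. -/
def sepOK (L : List (ℕ × ℕ)) (i : ℕ) (T : List (ℕ × ℕ)) (fs : List ℕ) : Bool :=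
  inTab T fs oneD && !inTab T fs (L.getD i oneD) &&
    (List.range L.length).all fun j => decide (j ≤ i) ||
      T.all fun E => inTab T fs (mulD (L.getD j oneD) E)

theorem inTab_mul {T : List (ℕ × ℕ)} {fs : List ℕ} {x y : ℕ × ℕ} (hx : inTab T fs x = true)
    (hy : ∀ E ∈ T, inTab T fs (mulD y E) = true) : inTab T fs (mulD y x) = true := by
  simp only [inTab, List.any_eq_true, Bool.and_eq_true, beq_iff_eq, List.all_eq_true,
    Bool.not_eq_true'] at hx hy ⊢
  obtain ⟨E, hE, he, hp⟩ := hx
  obtain ⟨E', hE', he', hp'⟩ := hy E hE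
  refine ⟨E', hE', he'.trans (by simp only [mulD, he]), fun f hf => ?_⟩
  have h1 := hp f hf
  have h2 := hp' f hf
  simp only [mulD, he, par_xor] at h2 ⊢
  simp only [par_xor] at h1
  revert h1 h2
  cases par f x.2 24 <;> cases par f E.2 24 <;> cases par f E'.2 24 <;>
    cases par f (bitsOf (fun i => y.2.testBit (Golay.fn x.1 i)) 24) 24 <;> simp

theorem packF_congr {f f' : ℕ → ℕ} (h : ∀ i < 24, f i = f' i) : packF f = packF f' := by
  simp only [packF]
  suffices ∀ l : List ℕ, (∀ i ∈ l, i < 24) →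
      l.foldr (fun i acc => f i + 32 * acc) 0 = l.foldr (fun i acc => f' i + 32 * acc) 0 from
    this _ fun i hi => List.mem_range.1 hi
  intro l hl
  induction l with
  | nil => rfl
  | cons a l ih =>
    rw [List.foldr_cons, List.foldr_cons, h a (hl a List.mem_cons_self),
      ih fun i hi => hl i (List.mem_cons_of_mem _ hi)]

/-- The permutation part is in packed form. -/
def canon (x : ℕ × ℕ) : Bool := packF (Golay.fn x.1) == x.1

theorem canon_mulD (x y : ℕ × ℕ) : canon (mulD x y) = true :=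
  beq_iff_eq.2 (packF_congr fun i hi => fn_packF _ (fun _ _ => fn_lt_32 _ _) hi)

theorem canon_oneD : canon oneD = true := by decide +kernel

theorem par_congr (f : ℕ) {a b : ℕ} :
    ∀ n, (∀ i < n, a.testBit i = b.testBit i) → par f a n = par f b n
  | 0, _ => rfl
  | n + 1, h => by
    rw [par, par, h n (by omega), par_congr f n fun i hi => h i (by omega)]

/-- Data of one element agree on the frame. -/
theorem Mon.fn_eq {g : Co0} {x y : ℕ × ℕ} (hx : Mon g x) (hy : Mon g y) {i : ℕ} (hi : i < 24) :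
    Golay.fn x.1 i = Golay.fn y.1 i ∧ x.2.testBit i = y.2.testBit i := by
  obtain ⟨h1, e1⟩ := hx i hi
  obtain ⟨h2, e2⟩ := hy i hi
  have e3 := congrFun (congrArg Subtype.val (e1.symm.trans e2)) (Golay.pt (Golay.fn x.1 i))
  rw [AddSubgroup.coe_zsmul, AddSubgroup.coe_zsmul, coe_eightVec, coe_eightVec, Pi.smul_apply,
    Pi.smul_apply, Pi.single_eq_same, smul_eq_mul, smul_eq_mul] at e3
  by_cases he : Golay.pt (Golay.fn x.1 i) = Golay.pt (Golay.fn y.1 i)
  · refine ⟨by rw [← Golay.idx_pt h1, he, Golay.idx_pt h2], ?_⟩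
    rw [he, Pi.single_eq_same] at e3
    revert e3
    cases x.2.testBit i <;> cases y.2.testBit i <;> intro e3 <;>
      first | rfl | (exfalso; revert e3; decide)
  · rw [Pi.single_eq_of_ne he, mul_zero] at e3
    exfalso
    revert e3
    cases x.2.testBit i <;> decide

end Cfsg.Agent.Co2Mult
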