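/-
Elements of the stabiliser of the short vector given by words, and subgroups separated by tables.

Main results: `natCard_CU`, `xEl`, `card_dvd_of_chain`.
-/
import Cfsg.Agent.Lib.Co2Mult.Mono
import Cfsg.Agent.Lib.Leech.Co2Simple
import Cfsg.Agent.Lib.OutCert.Transport
import Cfsg.Agent.Lib.PcTrivial.Basic

set_option autoImplicit false
set_option linter.style.haveILetI false

open Cfsg Cfsg.Agent.Leech

namespace Cfsg.Agent.Co2Mult

theorem natCard_CU : Nat.card CU = 42305421312000 := by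
  obtain ⟨g, hg⟩ := transitive32 golayUnique (v := Spor.leechU) (w := baseU) (by decide +kernel)
    sqNorm_baseU
  obtain ⟨f⟩ := OutCert.nonempty_stab_equiv g hg
  rw [Nat.card_congr f.toEquiv]
  exact natCard_co2Group

instance : Finite CU := Nat.finite_of_card_ne_zero (by rw [natCard_CU]; norm_num)

/-- The non-monomial element. -/
noncomputable def xEl : CU :=
  ⟨Co2Centralizer.genCo0 0, (Co2Centralizer.mem_cent.1 (Co2Centralizer.genCo0_mem 0)).1⟩

theorem coe_xEl : (xEl : Co0) = Co2Centralizer.monoEl 0 * Co2Centralizer.xiEl := by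
  show Co2Centralizer.genCo0 0 = _
  rw [Co2Centralizer.genCo0, if_pos rfl]

/-- The pair of the monomial factor. -/
def m0Pair : ℕ × ℕ := ((Co2Centralizer.md 0).1, (Co2Centralizer.md 0).2.2)

theorem okA_m0 : okA m0Pair = true := by decide +kernel

theorem coe_m0 : co0El m0Pair = Co2Centralizer.monoEl 0 := by
  rw [co0El, dif_pos okA_m0]
  rfl

open PcCover PcTrivial

theorem mon_wp {L : List (ℕ × ℕ)} {g : ℕ → CU} {n : ℕ}
    (h : ∀ i < n, Mon ((g i : CU) : Co0) (L.getD i oneD)) :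
    ∀ w : List ℕ, (∀ l ∈ w, l < n) → Mon ((wp g w : CU) : Co0) (wordD L w)
  | [], _ => by
    show Mon ((1 : CU) : Co0) oneD
    rw [OneMemClass.coe_one]; exact Mon.one
  | x :: w, hw => by
    have e : wordD L (x :: w) = mulD (L.getD x oneD) (wordD L w) := rfl
    rw [e, wp_cons, Subgroup.coe_mul]
    exact (h x (hw x List.mem_cons_self)).mul (mon_wp h w fun l hl => hw l (List.mem_cons_of_mem _ hl))

/-- Two words with equal data give the same element. -/
theorem wp_eq_of_word {L : List (ℕ × ℕ)} {g : ℕ → CU} {n : ℕ}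
    (h : ∀ i < n, Mon ((g i : CU) : Co0) (L.getD i oneD)) {u w : List ℕ} (hu : ∀ l ∈ u, l < n)
    (hw : ∀ l ∈ w, l < n) (e : wordD L u = wordD L w) : wp g u = wp g w :=
  Subtype.ext ((e ▸ mon_wp h u hu).eq (mon_wp h w hw))

theorem not_mem_of_sep {L : List (ℕ × ℕ)} {g : ℕ → CU} {T : List (ℕ × ℕ)} {fs : List ℕ}
    (h : ∀ i < L.length, Mon ((g i : CU) : Co0) (L.getD i oneD))
    (hc : ∀ i < L.length, canon (L.getD i oneD) = true) {i : ℕ} (hi : i < L.length)
    (hs : sepOK L i T fs = true) :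
    g i ∉ Subgroup.closure {y | ∃ j, i < j ∧ j < L.length ∧ y = g j} := by
  simp only [sepOK, Bool.and_eq_true, Bool.not_eq_true', List.all_eq_true, List.mem_range,
    Bool.or_eq_true, decide_eq_true_eq] at hs
  obtain ⟨⟨h1, h2⟩, hcl⟩ := hs
  intro hm
  have key : ∀ y ∈ Submonoid.closure {y : CU | ∃ j, i < j ∧ j < L.length ∧ y = g j},
      ∃ x, Mon (y : Co0) x ∧ canon x = true ∧ inTab T fs x = true := by
    intro y hy
    induction hy using Submonoid.closure_induction_left with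
    | one => exact ⟨oneD, by rw [OneMemClass.coe_one]; exact Mon.one, canon_oneD, h1⟩
    | mul_left a ha b _ ih =>
      obtain ⟨j, hij, hj, rfl⟩ := ha
      obtain ⟨x, hx, -, hxT⟩ := ih
      refine ⟨mulD (L.getD j oneD) x, by rw [Subgroup.coe_mul]; exact (h j hj).mul hx,
        canon_mulD _ _, inTab_mul hxT fun E hE => ?_⟩
      rcases hcl j hj with h3 | h3
      · omega
      · exact h3 E hE
  rw [← Subgroup.mem_toSubmonoid, Subgroup.closure_toSubmonoid_of_finite] at hm
  obtain ⟨x, hx, hxc, hxT⟩ := key _ hm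
  refine Bool.eq_false_iff.1 h2 ?_
  have e1 : x.1 = (L.getD i oneD).1 := by
    rw [← beq_iff_eq.1 hxc, ← beq_iff_eq.1 (hc i hi)]
    exact packF_congr fun k hk => (hx.fn_eq (h i hi) hk).1
  have e2 : ∀ f, par f x.2 24 = par f (L.getD i oneD).2 24 := fun f =>
    par_congr f 24 fun k hk => (hx.fn_eq (h i hi) hk).2
  simpa only [inTab, e1, par_xor, e2] using hxT

/-- The order of a subgroup with a chain of steps of order `p`. -/
theorem card_dvd_of_chain {G : Type*} [Group G] [Finite G] {p n : ℕ} (hp : p.Prime) (g : ℕ → G)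
    (hpow : ∀ i < n, ∃ w : List ℕ, g i ^ p = wp g w ∧ ∀ l ∈ w, i < l ∧ l < n)
    (hconj : ∀ i j, i < j → j < n → ∃ w : List ℕ, g j * g i = g i * wp g w ∧
      ∀ l ∈ w, i < l ∧ l < n)
    (hsep : ∀ i < n, g i ∉ Subgroup.closure {y | ∃ j, i < j ∧ j < n ∧ y = g j}) :
    ∀ k i, i + k = n → p ^ k ∣ Nat.card (Subgroup.closure {y | ∃ j, i ≤ j ∧ j < n ∧ y = g j}) := by
  have hwpQ : ∀ {i} {w : List ℕ}, (∀ l ∈ w, i ≤ l ∧ l < n) →
      wp g w ∈ Subgroup.closure {y | ∃ j, i ≤ j ∧ j < n ∧ y = g j} := by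
    intro i w hw
    induction w with
    | nil => exact one_mem _
    | cons x w ih =>
      rw [wp_cons]
      exact mul_mem (Subgroup.subset_closure ⟨x, (hw x List.mem_cons_self).1,
        (hw x List.mem_cons_self).2, rfl⟩) (ih fun l hl => hw l (List.mem_cons_of_mem _ hl))
  intro k
  induction k with
  | zero => intro i _; rw [pow_zero]; exact one_dvd _
  | succ k ih =>
    intro i hik
    obtain ⟨Q, hQ⟩ : ∃ Q, Q = Subgroup.closure {y | ∃ j, i ≤ j ∧ j < n ∧ y = g j} := ⟨_, rfl⟩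
    obtain ⟨R, hR⟩ : ∃ R, R = Subgroup.closure {y | ∃ j, i + 1 ≤ j ∧ j < n ∧ y = g j} := ⟨_, rfl⟩
    rw [← hQ]
    have hN : g i ∈ Subgroup.normalizer (R : Set G) := by
      rw [← inv_mem_iff]
      refine PcTrivial.mem_normalizer_of_conj _ _ fun y hy => ?_
      rw [hR] at hy ⊢
      induction hy using Subgroup.closure_induction with
      | mem y hy =>
        obtain ⟨j, hij, hj, rfl⟩ := hy
        obtain ⟨w, h1, h2⟩ := hconj i j (by omega) hj
        rw [inv_inv, mul_assoc, h1, inv_mul_cancel_left]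
        exact hwpQ fun l hl => ⟨(h2 l hl).1, (h2 l hl).2⟩
      | one => simp
      | mul x y _ _ hx hy =>
        have := mul_mem hx hy
        rwa [show (g i)⁻¹ * x * (g i)⁻¹⁻¹ * ((g i)⁻¹ * y * (g i)⁻¹⁻¹) =
          (g i)⁻¹ * (x * y) * (g i)⁻¹⁻¹ by group] at this
      | inv x _ hx =>
        have := inv_mem hx
        rwa [show ((g i)⁻¹ * x * (g i)⁻¹⁻¹)⁻¹ = (g i)⁻¹ * x⁻¹ * (g i)⁻¹⁻¹ by group] at this
    have hle : R ≤ Q := hR ▸ hQ ▸ Subgroup.closure_mono fun y ⟨j, h1, h2, e⟩ => ⟨j, by omega, h2, e⟩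
    have hgQ : g i ∈ Q := hQ ▸ Subgroup.subset_closure ⟨i, le_rfl, by omega, rfl⟩
    have hgR : g i ∉ R := hR ▸ hsep i (by omega)
    have hap : g i ^ p ∈ R := by
      obtain ⟨w, h1, h2⟩ := hpow i (by omega)
      rw [h1, hR]
      exact hwpQ fun l hl => ⟨(h2 l hl).1, (h2 l hl).2⟩
    let N : Subgroup Q := R.subgroupOf Q
    haveI : N.Normal := by
      refine (Subgroup.normal_subgroupOf_iff_le_normalizer hle).2 ?_
      rw [hQ, Subgroup.closure_le]
      rintro _ ⟨j, h1, h2, rfl⟩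
      rcases Nat.eq_or_lt_of_le h1 with rfl | h1
      · exact hN
      · exact Subgroup.le_normalizer (hR ▸ Subgroup.subset_closure ⟨j, h1, h2, rfl⟩)
    let x : Q := ⟨g i, hgQ⟩
    have hne : (x : Q ⧸ N) ≠ 1 := fun h => hgR ((QuotientGroup.eq_one_iff x).1 h)
    have hxp : (x : Q ⧸ N) ^ p = 1 := by
      rw [← QuotientGroup.mk_pow, QuotientGroup.eq_one_iff]
      show ((x ^ p : Q) : G) ∈ R
      rw [SubgroupClass.coe_pow]; exact hap
    haveI := Fact.mk hp
    have hidx : p ∣ N.index := by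
      rw [Subgroup.index_eq_card, ← orderOf_eq_prime hxp hne]
      exact orderOf_dvd_natCard _
    rw [← N.card_mul_index, Nat.card_congr (Subgroup.subgroupOfEquivOfLe hle).toEquiv, pow_succ,
      hR]
    exact Nat.mul_dvd_mul (ih (i + 1) (by omega)) hidx

end Cfsg.Agent.Co2Mult
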