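/-
Elements of the stabiliser of the short vector as words, evaluated through packed columns.

Main results: `Cols`, `Cols.srep`, `cols_letter`.
-/
import Cfsg.Agent.Lib.Co2Mult.Base
import Cfsg.Agent.Lib.OutCert.Fast

set_option autoImplicit false

open scoped Matrix
open Cfsg Cfsg.Agent.Leech

namespace Cfsg.Agent.Co2Mult

open OutCert

/-- Data at an odd prime: elements (word, rows in lanes, packed columns), generators first. -/
structure OddData where
  /-- The prime. -/
  p : ℕ
  /-- Number of generators. -/
  n : ℕ
  /-- The elements. -/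
  els : List (List (Option (ℕ × ℕ)) × List ℕ × List ℤ)
  /-- The certificate. -/
  cert : PcTrivial.Cert
  /-- The separating orbits. -/
  seps : List (List ℕ)

/-- A list from its lanes. -/
def unpackRow (n : ℕ) : List ℤ :=
  (List.range 24).map fun i => Int.subNatNat ((n >>> (5 * i)) % 32) 16

/-- The matrix times eight has these rows. -/
def Cols (g : Co0) (L : List (List ℤ)) : Prop :=
  ∀ p : GolayPt, ((g • eightVec p : leechLattice) : GolayPt → ℤ) =
    fun i => (L.getD (Golay.idx i) []).getD (Golay.idx p) 0

theorem Cols.smul_spec {g : Co0} {L : List (List ℤ)} (hg : Cols g L) (v : leechLattice) :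
    toMat L *ᵥ (v : GolayPt → ℤ) = (8 : ℤ) • ((g • v : leechLattice) : GolayPt → ℤ) := by
  have e : ((g • ((8 : ℤ) • v) : leechLattice) : GolayPt → ℤ) =
      toMat L *ᵥ (v : GolayPt → ℤ) := by
    rw [eight_smul_eq_sum, ← addHom_apply, map_sum]
    funext i
    rw [AddSubgroup.val_finsetSum, Finset.sum_apply, Matrix.mulVec, dotProduct]
    refine Finset.sum_congr rfl fun p _ => ?_
    rw [addHom_apply, smul_zsmul, AddSubgroup.coe_zsmul, hg p]
    simp only [Pi.smul_apply, smul_eq_mul, mul_comm]
    rfl
  rw [← e, smul_zsmul, AddSubgroup.coe_zsmul]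

theorem Cols.srep {g : Co0} {L : List (List ℤ)} {P : List ℤ} (hg : Cols g L) (hL : L.length = 24)
    (hb : L.all smallL = true) (hP : P = packCols L) {v : leechLattice} {x : List ℤ}
    (h : SRep v x) : SRep (g • v) (actC P x) := by
  refine h.smul ⟨by rw [hP, actC_eq hL hb h.1.1 h.small]; simp [actM, hL], funext fun p => ?_⟩
  have e := congrFun (hg.smul_spec v) p
  rw [h.1.2, toMat_mulVec L h.1.1, Pi.smul_apply, smul_eq_mul] at e
  rw [hP, actC_eq hL hb h.1.1 h.small]
  show _ = (L.map fun r => dotL r x / 8).getD (Golay.idx p) 0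
  rw [show (L.map fun r => dotL r x / 8) = (L.map fun r => dotL r x).map fun a => a / 8 by
    simp [List.map_map, Function.comp_def], show (0 : ℤ) = (fun a : ℤ => a / 8) 0 from rfl,
    List.getD_map]
  show _ = (vOf (L.map fun r => dotL r x) p) / 8
  rw [e]
  simp

/-- The frame vector as a list. -/
def unitL (j : ℕ) : List ℤ := (List.range 24).map fun i => if i = j then 8 else 0

theorem srep_eightVec (p : GolayPt) : SRep (eightVec p) (unitL (Golay.idx p)) := by
  refine ⟨⟨by simp [unitL], funext fun i => ?_⟩, ?_⟩
  · rw [coe_eightVec]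
    show _ = (unitL (Golay.idx p)).getD (Golay.idx i) 0
    rw [unitL, List.getD_eq_getElem _ _ (by simpa using Golay.idx_lt i), List.getElem_map,
      List.getElem_range, Pi.single_apply]
    simp only [Golay.idx_injective.eq_iff]
  · rw [coe_eightVec, sqNorm, Finset.sum_eq_single p (fun q _ hq => by
      rw [Pi.single_eq_of_ne hq]; norm_num) (by simp), Pi.single_eq_same]
    norm_num

/-- The image under a signed permutation given by a datum. -/
def scatter (a : ℕ × ℕ) (x : List ℤ) : List ℤ :=
  (List.range 24).map fun l =>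
    sgnI (a.2.testBit ((List.range 24).findIdx fun j => Golay.fn a.1 j == l)) *
      x.getD ((List.range 24).findIdx fun j => Golay.fn a.1 j == l) 0

theorem srep_scatter {g : Co0} {a : ℕ × ℕ} (hg : Mon g a)
    (hsurj : ((List.range 24).all fun l => (List.range 24).any fun j => Golay.fn a.1 j == l) = true)
    {v : leechLattice} {x : List ℤ} (h : SRep v x) : SRep (g • v) (scatter a x) := by
  refine h.smul ⟨by simp [scatter], funext fun p => ?_⟩
  obtain ⟨k, hk⟩ : ∃ k, k = (List.range 24).findIdx fun j => Golay.fn a.1 j == Golay.idx p := ⟨_, rfl⟩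
  have hex := List.all_eq_true.1 hsurj _ (List.mem_range.2 (Golay.idx_lt p))
  rw [List.any_eq_true] at hex
  have hk24 : k < 24 := by
    have := List.findIdx_lt_length_of_exists hex
    rw [List.length_range] at this
    omega
  have hfk : Golay.fn a.1 k = Golay.idx p := by
    have h1 := List.findIdx_getElem (w := by rw [← hk]; simpa using hk24)
      (xs := List.range 24) (p := fun j => Golay.fn a.1 j == Golay.idx p)
    simpa [← hk] using h1
  have e := hg.coord hk24 v
  rw [hfk, Golay.pt_idx] at e
  rw [e, h.1.2]
  show _ = (scatter a x).getD (Golay.idx p) 0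
  rw [scatter, List.getD_eq_getElem _ _ (by simpa using Golay.idx_lt p), List.getElem_map,
    List.getElem_range, ← hk]
  show _ * x.getD (Golay.idx (Golay.pt k)) 0 = _
  rw [Golay.idx_pt hk24]

theorem cols_of_srep {g : Co0} {L : List (List ℤ)} (hL : L.length = 24)
    (h : ∀ p : GolayPt, ∃ y, SRep (g • eightVec p) y ∧
      y = L.map fun r => r.getD (Golay.idx p) 0) : Cols g L := by
  intro p
  obtain ⟨y, hy, rfl⟩ := h p
  rw [hy.1.2]
  funext i
  have hi : Golay.idx i < L.length := hL ▸ Golay.idx_lt i
  show (L.map fun r => r.getD (Golay.idx p) 0).getD (Golay.idx i) 0 = _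
  rw [List.getD_eq_getElem _ _ (by simpa using hi), List.getElem_map, List.getD_eq_getElem L _ hi]

end Cfsg.Agent.Co2Mult
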