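/-
No stem extension of the stabiliser of the short vector with kernel of order 3 or 5.

Main results: `OddData.not_stem`, `not_stem_three`, `not_stem_five`.
-/
import Cfsg.Agent.Lib.Co2Mult.OddBase
import Cfsg.Agent.Lib.Co2Mult.OddData

set_option autoImplicit false
set_option maxRecDepth 100000

open scoped Matrix
open Cfsg Cfsg.Agent.Leech

namespace Cfsg.Agent.Co2Mult

open OutCert PcCover PcTrivial

/-- The matrix of the non-monomial map. -/
def xL : List (List ℤ) := xRows.map unpackRow

theorem x_check : xL.length = 24 ∧ xL.all smallL = true ∧ (xCols == packCols xL) = true := by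
  decide +kernel

theorem x_entries : ∀ p i : GolayPt, Co2Centralizer.genFun 0 (Pi.single p 8) i =
    (xL.getD (Golay.idx i) []).getD (Golay.idx p) 0 := by decide +kernel

theorem cols_xEl : Cols (xEl : Co0) xL := fun p =>
  (Co2Centralizer.vec_genCo0 0 _).trans (funext fun i => by rw [coe_eightVec]; exact x_entries p i)

/-- The element of a word. -/
noncomputable def wordEl : List (Option (ℕ × ℕ)) → CU
  | [] => 1
  | none :: w => xEl * wordEl w
  | some a :: w => cuEl a * wordEl w

/-- The image of a list under a word. -/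
def wordImg : List (Option (ℕ × ℕ)) → List ℤ → List ℤ
  | [], x => x
  | none :: w, x => actC xCols (wordImg w x)
  | some a :: w, x => scatter (lane a) (wordImg w x)

/-- The letters are valid. -/
def wordOK (w : List (Option (ℕ × ℕ))) : Bool :=
  w.all fun o => match o with
    | none => true
    | some a => okU a &&
      (List.range 24).all fun l => (List.range 24).any fun j => Golay.fn (lane a).1 j == l

theorem srep_word : ∀ (w : List (Option (ℕ × ℕ))), wordOK w = true →
    ∀ {v : leechLattice} {x : List ℤ}, SRep v x → SRep ((wordEl w : Co0) • v) (wordImg w x)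
  | [], _, v, x, h => by
    rw [wordEl, OneMemClass.coe_one, one_smul]; exact h
  | none :: w, hw, v, x, h => by
    rw [wordEl, wordImg, Subgroup.coe_mul, mul_smul]
    simp only [wordOK, List.all_cons, Bool.true_and] at hw
    exact cols_xEl.srep x_check.1 x_check.2.1 (beq_iff_eq.1 x_check.2.2) (srep_word w hw h)
  | some a :: w, hw, v, x, h => by
    rw [wordEl, wordImg, Subgroup.coe_mul, mul_smul]
    simp only [wordOK, List.all_cons, Bool.and_eq_true] at hw
    exact srep_scatter (mon_cuEl hw.1.1) hw.1.2 (srep_word w hw.2 h)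

namespace OddData

variable (D : OddData)

/-- The packed columns of an element. -/
def colP (i : ℕ) : List ℤ := (D.els.getD i ([], [], [])).2.2

/-- The element number `i`. -/
noncomputable def el (i : ℕ) : CU := wordEl (D.els.getD i ([], [], [])).1

/-- The image under a product of elements. -/
def imgP (w : List ℕ) (x : List ℤ) : List ℤ := w.foldr (fun i y => actC (D.colP i) y) x

/-- The elements have the given matrices. -/
def elsOK : Bool :=
  D.els.all fun e => wordOK e.1 && decide ((e.2.1.map unpackRow).length = 24) &&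
    (e.2.1.map unpackRow).all smallL && e.2.2 == packCols (e.2.1.map unpackRow) &&
    (List.range 24).all fun j =>
      wordImg e.1 (unitL j) == (e.2.1.map unpackRow).map fun r => r.getD j 0

/-- Two products agree on the frame. -/
def eqW (u w : List ℕ) : Bool :=
  u.all (fun i => decide (i < D.els.length)) && w.all (fun i => decide (i < D.els.length)) &&
    (List.range 24).all fun j => D.imgP u (unitL j) == D.imgP w (unitL j)

/-- The rules and fusions hold. -/
def relsOK : Bool :=
  (D.cert.rules.all fun r => D.eqW r.1 r.2) &&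
  D.cert.rels.all fun r => match r with
    | .fus x A B A' B' =>
      D.eqW ((D.n + x) :: A) (A' ++ [D.n + x]) && D.eqW ((D.n + x) :: B) (B' ++ [D.n + x])
    | _ => true

/-- A short lattice vector. -/
def shortOK (x : List ℤ) : Bool := inLatL x && x.length == 24 && decide (dotL x x ≤ 80)

/-- The chain and its separation. -/
def chainOK : Bool :=
  (decide (D.cert.n = D.n) && decide (D.n ≤ D.els.length) && decide (D.cert.p = D.p)) &&
  ((List.range D.n).all fun i => D.cert.rules.any fun r => r.1 == List.replicate D.p i &&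
    r.2.all (fun l => decide (i < l) && decide (l < D.n))) &&
  ((List.range D.n).all fun j => (List.range j).all fun i => D.cert.rules.any fun r =>
    r.1 == [j, i] &&
    match r.2 with
    | h :: w => h == i && w.all (fun l => decide (i < l) && decide (l < D.n))
    | [] => false) &&
  (List.range D.n).all fun i =>
    match (D.seps.getD i []).map unpackRow with
    | v :: O =>
      (v :: O).all shortOK && !(v :: O).contains (actC (D.colP i) v) &&
      (List.range D.n).all fun j => decide (j ≤ i) ||
        (v :: O).all fun x => (v :: O).contains (actC (D.colP j) x)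
    | [] => false

variable {D}

theorem srep_el (h : D.elsOK = true) {i : ℕ} (hi : i < D.els.length) {v : leechLattice} {x : List ℤ}
    (hx : SRep v x) : SRep ((D.el i : Co0) • v) (actC (D.colP i) x) := by
  have he := List.all_eq_true.1 h (D.els[i]) (List.getElem_mem hi)
  have e : D.els.getD i ([], [], []) = D.els[i] := List.getD_eq_getElem _ _ hi
  rw [el, colP, e]
  revert he
  generalize D.els[i] = e'
  intro he
  simp only [Bool.and_eq_true, decide_eq_true_eq, List.all_eq_true, List.mem_range, beq_iff_eq] at he
  obtain ⟨⟨⟨⟨h1, h2⟩, h3⟩, h4⟩, h5⟩ := he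
  have hc : Cols (wordEl e'.1 : Co0) (e'.2.1.map unpackRow) := cols_of_srep h2 fun p =>
    ⟨_, srep_word e'.1 h1 (srep_eightVec p), h5 _ (Golay.idx_lt p)⟩
  exact hc.srep h2 (List.all_eq_true.2 h3) h4 hx

theorem srep_wp (h : D.elsOK = true) : ∀ (w : List ℕ), (∀ i ∈ w, i < D.els.length) →
    ∀ {v : leechLattice} {x : List ℤ}, SRep v x →
      SRep (((wp D.el w : CU) : Co0) • v) (D.imgP w x)
  | [], _, v, x, hx => by
    rw [show ((wp D.el [] : CU) : Co0) = 1 from rfl, one_smul]; exact hx
  | a :: w, hw, v, x, hx => by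
    rw [wp_cons, Subgroup.coe_mul, mul_smul]
    exact srep_el h (hw a List.mem_cons_self)
      (srep_wp h w (fun i hi => hw i (List.mem_cons_of_mem _ hi)) hx)

theorem wp_eq (h : D.elsOK = true) {u w : List ℕ} (he : D.eqW u w = true) :
    wp D.el u = wp D.el w := by
  simp only [eqW, Bool.and_eq_true, List.all_eq_true, decide_eq_true_eq, List.mem_range,
    beq_iff_eq] at he
  obtain ⟨⟨hu, hw⟩, hj⟩ := he
  refine Subtype.ext (ext_frame fun p => ?_)
  have h1 := (srep_wp h u hu (srep_eightVec p)).1
  rw [hj _ (Golay.idx_lt p)] at h1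
  exact h1.eq (srep_wp h w hw (srep_eightVec p)).1

theorem exists_srep {x : List ℤ} (h : shortOK x = true) : ∃ v : leechLattice, SRep v x := by
  simp only [shortOK, Bool.and_eq_true, beq_iff_eq, decide_eq_true_eq] at h
  refine ⟨⟨vOf x, mem_of_inLatL h.1.1⟩, ⟨h.1.2, rfl⟩, ?_⟩
  have e : sqNorm (vOf x) = vOf x ⬝ᵥ vOf x := by simp [sqNorm, dotProduct, sq]
  show sqNorm (vOf x) ≤ 80
  rw [e, vOf_dotProduct _ h.1.2]
  exact h.2

/-- A checked certificate gives the local triviality. -/
theorem not_stem (D : OddData) (hp : D.p.Prime) (hC : D.cert.check = true) (hE : D.elsOK = true)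
    (hR : D.relsOK = true) (hS : D.chainOK = true)
    (hord : ¬ D.p ^ (D.n + 1) ∣ 42305421312000)
    {Γ : Type*} [Group Γ] [Finite Γ] (σ : Γ →* CU) (hσ : Cfsg.IsStemExtension σ) :
    Nat.card σ.ker ≠ D.p := by
  simp only [chainOK, Bool.and_eq_true, List.all_eq_true, List.mem_range, List.any_eq_true,
    beq_iff_eq, decide_eq_true_eq] at hS
  obtain ⟨⟨⟨⟨⟨hn, hlen⟩, hp'⟩, hpw⟩, hcj⟩, hsepd⟩ := hS
  simp only [relsOK, Bool.and_eq_true, List.all_eq_true] at hR
  have hrules : ∀ r ∈ D.cert.rules, wp D.el r.1 = wp D.el r.2 := fun r hr => wp_eq hE (hR.1 r hr)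
  have hfus : ∀ x A B A' B', PcTrivial.Rel.fus x A B A' B' ∈ D.cert.rels →
      D.el (D.cert.n + x) * wp D.el A = wp D.el A' * D.el (D.cert.n + x) ∧
        D.el (D.cert.n + x) * wp D.el B = wp D.el B' * D.el (D.cert.n + x) := by
    intro x A B A' B' hx
    have h := hR.2 _ hx
    simp only [Bool.and_eq_true] at h
    have h1 := wp_eq hE h.1
    have h2 := wp_eq hE h.2
    rw [wp_cons, wp_append, wp_single] at h1 h2
    rw [hn]
    exact ⟨h1, h2⟩
  have hsep : ∀ i < D.n, D.el i ∉ Subgroup.closure {y | ∃ j, i < j ∧ j < D.n ∧ y = D.el j} := by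
    intro i hi hm
    have h := hsepd i hi
    cases hO : (D.seps.getD i []).map unpackRow with
    | nil => rw [hO] at h; simp at h
    | cons x O =>
      rw [hO] at h
      simp only [Bool.and_eq_true, List.all_eq_true, Bool.not_eq_true', List.mem_range,
        Bool.or_eq_true, decide_eq_true_eq, List.contains_iff_mem] at h
      obtain ⟨⟨hok, hout⟩, hcl⟩ := h
      obtain ⟨v, hv⟩ := exists_srep (hok x List.mem_cons_self)
      have key : ∀ y ∈ Submonoid.closure {y | ∃ j, i < j ∧ j < D.n ∧ y = D.el j},
          ∃ z ∈ x :: O, SRep ((y : Co0) • v) z := by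
        intro y hy
        induction hy using Submonoid.closure_induction_left with
        | one => exact ⟨x, List.mem_cons_self, by rw [OneMemClass.coe_one, one_smul]; exact hv⟩
        | mul_left a ha b _ ih =>
          obtain ⟨j, hij, hj, rfl⟩ := ha
          obtain ⟨z, hz, hzr⟩ := ih
          rcases hcl j hj with h' | h'
          · omega
          · refine ⟨_, h' z hz, ?_⟩
            rw [Subgroup.coe_mul, mul_smul]
            exact srep_el hE (by omega) hzr
      rw [← Subgroup.mem_toSubmonoid, Subgroup.closure_toSubmonoid_of_finite] at hm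
      obtain ⟨z, hz, hzr⟩ := key _ hm
      have hne : actC (D.colP i) x ≠ z := fun e => by
        rw [← e] at hz
        exact Bool.false_ne_true (hout.symm.trans (List.contains_iff_mem.2 hz))
      exact (srep_el hE (show i < D.els.length by omega) hv).1.ne hzr.1 hne rfl
  rw [← hp']
  refine D.cert.not_stem D.el (fun x => D.el (D.cert.n + x)) (hp'.symm ▸ hp) hC hrules hfus
    (fun i _ hi => hn.symm ▸ hsep i (hn ▸ hi)) ?_ hσ
  intro hd
  have hcard := card_dvd_of_chain (n := D.n) hp D.el
    (fun i hi => by
      obtain ⟨r, hr, h1, h2⟩ := hpw i hi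
      refine ⟨r.2, ?_, h2⟩
      rw [← hrules r hr, h1, wp, List.map_replicate, List.prod_replicate])
    (fun i j hij hj => by
      obtain ⟨r, hr, h1, h2⟩ := hcj j hj i hij
      cases hw : r.2 with
      | nil => rw [hw] at h2; simp at h2
      | cons x w =>
        rw [hw] at h2
        simp only [Bool.and_eq_true, beq_iff_eq, List.all_eq_true, decide_eq_true_eq] at h2
        obtain ⟨rfl, h4⟩ := h2
        refine ⟨w, ?_, h4⟩
        have h3 := hrules r hr
        rw [h1, hw] at h3
        simpa [wp_cons, wp_nil] using h3)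
    hsep D.n 0 (zero_add _)
  have e : {y : CU | ∃ j < D.cert.n, y = D.el j} = {y | ∃ j, 0 ≤ j ∧ j < D.n ∧ y = D.el j} :=
    Set.ext fun y => ⟨fun ⟨j, h1, h2⟩ => ⟨j, Nat.zero_le j, hn ▸ h1, h2⟩,
      fun ⟨j, _, h1, h2⟩ => ⟨j, hn.symm ▸ h1, h2⟩⟩
  rw [e, hp'] at hd
  have h := Nat.mul_dvd_mul hcard hd
  rw [Subgroup.card_mul_index, natCard_CU, ← pow_succ] at h
  exact hord h

end OddData

theorem three_checks : dataThree.cert.check = true ∧ dataThree.elsOK = true ∧
    dataThree.relsOK = true ∧ dataThree.chainOK = true := by decide +kernel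

theorem five_checks : dataFive.cert.check = true ∧ dataFive.elsOK = true ∧
    dataFive.relsOK = true ∧ dataFive.chainOK = true := by decide +kernel

/-- The 3-part of the multiplier is trivial. -/
theorem not_stem_three {Γ : Type*} [Group Γ] [Finite Γ] (σ : Γ →* CU)
    (hσ : Cfsg.IsStemExtension σ) : Nat.card σ.ker ≠ 3 :=
  dataThree.not_stem Nat.prime_three three_checks.1 three_checks.2.1 three_checks.2.2.1
    three_checks.2.2.2 (by decide) σ hσ

/-- The 5-part of the multiplier is trivial. -/
theorem not_stem_five {Γ : Type*} [Group Γ] [Finite Γ] (σ : Γ →* CU)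
    (hσ : Cfsg.IsStemExtension σ) : Nat.card σ.ker ≠ 5 :=
  dataFive.not_stem (by norm_num : Nat.Prime 5) five_checks.1 five_checks.2.1 five_checks.2.2.1
    five_checks.2.2.2 (by decide) σ hσ

end Cfsg.Agent.Co2Mult
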