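/-
Tail certificates at the prime 2 with fusion of commuting pairs, forms kept as bit masks; the squares
of the first `d` generators are left free.

Main result: `not_stem_two_of_cert`.
-/
import Cfsg.Agent.Lib.Multiplier.TailCert
import Cfsg.Agent.Lib.PcTrivial.Basic

set_option autoImplicit false
set_option linter.style.haveILetI false

open scoped commutatorElement

namespace Cfsg.Agent.Co2Mult

open Multiplier.TailCert

/-- A relation between tails. -/
inductive TailRel
  /-- The two ways of collecting three generators. -/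
  | cons (a b c : ℕ)
  /-- Commuting pairs conjugate under the element number `k`. -/
  | fus (k : ℕ) (A B A' B' : List ℕ)

/-- The form saying that two words commute, if they do. -/
def commForm (n : ℕ) (w : List ℕ) (U V : List ℕ) : Option ℕ :=
  let r := nf n w (U ++ V)
  let s := nf n w (V ++ U)
  if r.1 = s.1 then some (r.2 ^^^ s.2) else none

/-- The form of a relation. -/
def TailRel.form (n : ℕ) (w : List ℕ) : TailRel → Option ℕ
  | .cons a b c => (Fact.cons [a, b, c] 0 1).form n w [] []
  | .fus _ A B A' B' =>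
    match commForm n w A B, commForm n w A' B' with
    | some f, some g => some (f ^^^ g)
    | _, _ => none

/-- The sum of the selected vectors. -/
def selSum : List ℕ → ℕ → ℕ
  | [], _ => 0
  | v :: vs, c => (bif c.testBit 0 then v else 0) ^^^ selSum vs (c / 2)

/-- The data: `w` the masks of the right sides, `defs` the defining rules by decreasing generator,
`zero` the vanishing tails with the relations used. -/
structure TailData where
  /-- Number of generators. -/
  n : ℕ
  /-- Generators from here span the derived subgroup with the squares. -/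
  d : ℕ
  /-- The right sides. -/
  w : List ℕ
  /-- The defining rules. -/
  defs : List (ℕ × ℕ × List ℕ)
  /-- The tails killed by the lifts. -/
  init : ℕ
  /-- The relations. -/
  rels : List TailRel
  /-- Their forms. -/
  vecs : List ℕ
  /-- The vanishing tails. -/
  zero : List (ℕ × ℕ)

namespace TailData

variable (C : TailData)

/-- The rules. -/
def rules : List (List ℕ × List ℕ) :=
  (pairs C.n).map fun q => ([q.1, q.2], rep C.n C.w q.1 q.2)

/-- A tail known to vanish. -/
def knownTail (k : ℕ) : Bool :=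
  C.zero.any fun e => e.1 == k && ((1 <<< k) ^^^ selSum C.vecs e.2) ||| C.init == C.init

/-- The check of the defining rules. -/
def defsOK : Bool :=
  PcTrivial.Cert.decr C.defs && C.defs.all (fun e => decide (e.2.1 < C.rules.length) &&
    (C.rules.getD e.2.1 ([], [])).2 == e.2.2 ++ [e.1] &&
    ((C.rules.getD e.2.1 ([], [])).1 ++ e.2.2).all fun l => decide (l < e.1)) &&
  (List.range (pairs C.n).length).all fun k => !C.init.testBit k || C.defs.any fun e => e.2.1 == k

/-- The check of the relations. -/
def relsOK : Bool := C.rels.map (TailRel.form C.n C.w) == C.vecs.map some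

/-- The check of the tails. -/
def tailsOK : Bool :=
  (List.range C.n).all fun a => (List.range (a + 1)).all fun b =>
    (pairs C.n).getD (tidx a b) (0, 0) == (a, b) && decide (tidx a b < (pairs C.n).length) &&
      (letters C.n (C.w.getD (tidx a b) 0)).all (fun l => decide (a < l) && decide (C.d ≤ l)) &&
      ((a == b && decide (a < C.d)) || C.knownTail (tidx a b))

end TailData

universe u v

variable {Γ : Type u} [Group Γ] {n : ℕ} {w : List ℕ} {A : ℕ → Γ}

/-- Normal forms from position `k` on, with the relations needed there. -/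
theorem normal_form_from [Finite Γ] {k₀ : ℕ}
    (hrel : ∀ a b, k₀ ≤ b → a < n → b ≤ a → A a * A b = pw A (rep n w a b))
    (hw : ∀ a b, a < n → b ≤ a → ∀ i ∈ letters n (w.getD (tidx a b) 0), a < i) :
    ∀ d k, k₀ ≤ k → k + d = n → ∀ x ∈ Subgroup.closure (A '' {i | k ≤ i ∧ i < n}),
      ∃ l, l.Sublist (List.range' k d) ∧ x = pw A l
  | 0, k, _, hd, x, hx => by
    have h0 : A '' {i | k ≤ i ∧ i < n} = ∅ := by
      rw [Set.image_eq_empty, Set.eq_empty_iff_forall_notMem]
      rintro i ⟨h1, h2⟩
      omega
    rw [h0, Subgroup.closure_empty, Subgroup.mem_bot] at hx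
    exact ⟨[], List.nil_sublist _, hx⟩
  | d + 1, k, hk, hd, x, hx => by
    obtain ⟨M, hM⟩ : ∃ M, M = Subgroup.closure (A '' {i | k + 1 ≤ i ∧ i < n}) := ⟨_, rfl⟩
    have hgen : ∀ i, k < i → i < n → A i ∈ M := fun i h1 h2 =>
      hM ▸ Subgroup.subset_closure ⟨i, ⟨h1, h2⟩, rfl⟩
    have hlet : ∀ a b, k ≤ a → a < n → b ≤ a → pw A (letters n (w.getD (tidx a b) 0)) ∈ M := by
      intro a b hka ha hb
      refine Subgroup.list_prod_mem M fun y hy => ?_
      obtain ⟨i, hi, rfl⟩ := List.mem_map.1 hy
      have h1 := hw a b ha hb i hi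
      exact hgen i (by omega) (List.mem_range.1 (List.mem_filter.1 hi).1)
    have hsq : A k * A k ∈ M := by
      rw [hrel k k hk (by omega) le_rfl, rep, if_pos rfl]
      exact hlet k k le_rfl (by omega) le_rfl
    have hnorm : ∀ m ∈ M, (A k)⁻¹ * m * A k ∈ M := by
      intro m hm
      rw [hM] at hm
      induction hm using Subgroup.closure_induction with
      | mem y hy =>
        obtain ⟨j, ⟨hj1, hj2⟩, rfl⟩ := hy
        have h1 := hrel j k hk hj2 (by omega)
        rw [rep, if_neg (by omega), pw_cons, pw_cons] at h1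
        rw [mul_assoc, h1, inv_mul_cancel_left]
        exact mul_mem (hgen j (by omega) hj2) (hlet j k (by omega) hj2 (by omega))
      | one => simp
      | mul a b _ _ ha hb =>
        rw [show (A k)⁻¹ * (a * b) * A k = (A k)⁻¹ * a * A k * ((A k)⁻¹ * b * A k) by group]
        exact mul_mem ha hb
      | inv a _ ha =>
        rw [show (A k)⁻¹ * a⁻¹ * A k = ((A k)⁻¹ * a * A k)⁻¹ by group]
        exact inv_mem ha
    have hform : ∃ m ∈ M, x = m ∨ x = A k * m := by
      rw [← Subgroup.mem_toSubmonoid, Subgroup.closure_toSubmonoid_of_finite] at hx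
      induction hx using Submonoid.closure_induction_right with
      | one => exact ⟨1, one_mem M, .inl rfl⟩
      | mul_right y _ z hz ih =>
        obtain ⟨i, ⟨hi1, hi2⟩, rfl⟩ := hz
        obtain ⟨m, hm, h⟩ := ih
        rcases Nat.lt_or_ge k i with hki | hki
        · refine ⟨m * A i, mul_mem hm (hgen i hki hi2), ?_⟩
          rcases h with rfl | rfl
          · exact .inl rfl
          · exact .inr (mul_assoc _ _ _)
        · obtain rfl : i = k := by omega
          rcases h with rfl | rfl
          · exact ⟨(A i)⁻¹ * y * A i, hnorm y hm, .inr (by group)⟩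
          · refine ⟨A i * A i * ((A i)⁻¹ * m * A i), mul_mem hsq (hnorm m hm), .inl ?_⟩
            group
    obtain ⟨m, hm, h⟩ := hform
    obtain ⟨l, hl, rfl⟩ :=
      normal_form_from hrel hw d (k + 1) (by omega) (by omega) m (hM ▸ hm)
    rcases h with rfl | rfl
    · exact ⟨l, by rw [List.range'_succ]; exact hl.cons _, rfl⟩
    · exact ⟨k :: l, by rw [List.range'_succ]; exact hl.cons_cons _, (pw_cons A k l).symm⟩

variable [Finite Γ] {G : Type v} [Group G] {σ : Γ →* G}

/-- A checked tail certificate excludes a double stem extension. -/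
theorem not_stem_two_of_cert (C : TailData) (g xs : ℕ → G) (hdefs : C.defsOK = true)
    (hrels : C.relsOK = true) (htails : C.tailsOK = true)
    (hrules : ∀ a b, a < C.n → b ≤ a → pw g [a, b] = pw g (rep C.n C.w a b))
    (hfus : ∀ k A B A' B', TailRel.fus k A B A' B' ∈ C.rels →
      xs k * pw g A = pw g A' * xs k ∧ xs k * pw g B = pw g B' * xs k)
    (hsep : ∀ i, C.d ≤ i → i < C.n →
      g i ∉ Subgroup.closure {y | ∃ j, i < j ∧ j < C.n ∧ y = g j})
    (hidx : ¬ 2 ∣ (Subgroup.closure {y | ∃ j < C.n, y = g j}).index)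
    (hσ : Cfsg.IsStemExtension σ) : Nat.card σ.ker ≠ 2 := by
  classical
  intro hK
  have hker : σ.ker ≤ Subgroup.center Γ := hσ.2.1
  have htwo : ∀ z ∈ σ.ker, z * z = 1 := fun z hz => by
    have := congrArg Subtype.val (pow_card_eq_one' (x := (⟨z, hz⟩ : σ.ker)))
    rwa [hK, Subgroup.coe_pow, Subgroup.coe_one, pow_two] at this
  simp only [TailData.tailsOK, List.all_eq_true, List.mem_range, Bool.and_eq_true, beq_iff_eq,
    decide_eq_true_eq, Bool.or_eq_true] at htails
  simp only [TailData.defsOK, Bool.and_eq_true, List.all_eq_true, List.mem_range, Bool.or_eq_true,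
    List.any_eq_true, beq_iff_eq, decide_eq_true_eq, Bool.not_eq_true'] at hdefs
  obtain ⟨⟨hdecr, hdef⟩, hinit⟩ := hdefs
  have hrule : ∀ k < (pairs C.n).length, C.rules.getD k ([], []) =
      ([((pairs C.n).getD k (0, 0)).1, ((pairs C.n).getD k (0, 0)).2],
        rep C.n C.w ((pairs C.n).getD k (0, 0)).1 ((pairs C.n).getD k (0, 0)).2) := by
    intro k hk
    rw [TailData.rules, List.getD_eq_getElem _ _ (by simpa using hk), List.getElem_map,
      List.getD_eq_getElem _ _ hk]
  have hpairs : ∀ k < (pairs C.n).length,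
      ((pairs C.n).getD k (0, 0)).1 < C.n ∧
        ((pairs C.n).getD k (0, 0)).2 ≤ ((pairs C.n).getD k (0, 0)).1 := by
    intro k hk
    rw [List.getD_eq_getElem _ _ hk]
    have hm := List.getElem_mem hk
    revert hm
    generalize (pairs C.n)[k] = q
    intro hm
    simp only [pairs, List.mem_flatMap, List.mem_range, List.mem_map] at hm
    obtain ⟨a, ha, b, hb, rfl⟩ := hm
    exact ⟨ha, Nat.lt_succ_iff.1 hb⟩
  have hlen : C.rules.length = (pairs C.n).length := by rw [TailData.rules, List.length_map]
  have hg : ∀ e ∈ C.defs, (C.rules.getD e.2.1 ([], [])).2 = e.2.2 ++ [e.1] ∧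
      (∀ l ∈ (C.rules.getD e.2.1 ([], [])).1 ++ e.2.2, l < e.1) ∧
      PcCover.wp g (C.rules.getD e.2.1 ([], [])).1 = PcCover.wp g (C.rules.getD e.2.1 ([], [])).2 := by
    intro e he
    obtain ⟨⟨h1, h2⟩, h3⟩ := hdef e he
    refine ⟨h2, h3, ?_⟩
    rw [hlen] at h1
    rw [hrule _ h1]
    exact hrules _ _ (hpairs _ h1).1 (hpairs _ h1).2
  obtain ⟨A, hA, hAdef⟩ := PcTrivial.exists_lifts hσ.1 C.rules g C.defs hdecr hg
  have hσw : ∀ l, σ (pw A l) = pw g l := fun l => by
    rw [pw, pw, map_list_prod, List.map_map]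
    exact congrArg List.prod (List.map_congr_left fun i _ => hA i)
  let T : ℕ → Γ := fun k =>
    let q := (pairs C.n).getD k (0, 0)
    if q.1 < C.n ∧ q.2 ≤ q.1 ∧ tidx q.1 q.2 = k then (pw A (rep C.n C.w q.1 q.2))⁻¹ * (A q.1 * A q.2)
    else 1
  have hTab : ∀ a b, a < C.n → b ≤ a →
      T (tidx a b) = (pw A (rep C.n C.w a b))⁻¹ * (A a * A b) := by
    intro a b ha hb
    simp only [T, (htails a ha b (by omega)).1.1.1]
    rw [if_pos ⟨ha, hb, trivial⟩]
  have hAB : ∀ a b, pw A [a, b] = A a * A b := fun a b => by simp [pw]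
  have hT : ∀ k, σ (T k) = 1 := fun k => by
    simp only [T]
    split
    · next hq =>
      rw [map_mul, map_inv, hσw, ← hAB, hσw, hrules _ _ hq.1 hq.2.1, inv_mul_cancel]
    · exact map_one σ
  have hc : ∀ k x, x * T k = T k * x := fun k => Subgroup.mem_center_iff.1 (hker (hT k))
  have hsq : ∀ k, T k * T k = 1 := fun k => htwo _ (hT k)
  have hrel : ∀ a b, a < C.n → b ≤ a → A a * A b = pw A (rep C.n C.w a b) * T (tidx a b) :=
    fun a b ha hb => by rw [hTab a b ha hb, mul_inv_cancel_left]
  have hN : ∀ a b, a < C.n → b ≤ a → tidx a b < (pairs C.n).length := fun a b ha hb =>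
    (htails a ha b (by omega)).1.1.2
  obtain ⟨N, hNdef⟩ : ∃ N, N = (pairs C.n).length := ⟨_, rfl⟩
  rw [← hNdef] at hN hinit
  have hnf := nf_sound hc hsq hrel hN
  have hxor := fval_xor (T := T) hc hsq N
  have hinv : ∀ f, fval T N f * fval T N f = 1 := fun f => by
    rw [← hxor, Nat.xor_self, fval_zero]
  have hinitT : ∀ k, k < N → C.init.testBit k = true → T k = 1 := by
    intro k hk hb
    simp only [T]
    split
    · rcases hinit k hk with h | ⟨e, he, hek⟩
      · rw [hb] at h; exact Bool.noConfusion h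
      · have h1 := hAdef e he
        rw [hek, hrule k (hNdef ▸ hk)] at h1
        change pw A [_, _] = pw A (rep _ _ _ _) at h1
        rw [← hAB, h1, inv_mul_cancel]
    · rfl
  -- the relations
  have hcen : ∀ f, ∀ x : Γ, x * fval T N f = fval T N f * x := fun f => fval_comm hc N f
  have hcomm : ∀ U V f, commForm C.n C.w U V = some f → ⁅pw A U, pw A V⁆ = fval T N f := by
    intro U V f hf
    simp only [commForm] at hf
    split at hf
    · next he =>
      obtain rfl := Option.some.inj hf
      have e1 := hnf (U ++ V)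
      have e2 := hnf (V ++ U)
      rw [pw_append] at e1 e2
      rw [he] at e1
      obtain ⟨X, hX⟩ : ∃ X, X = pw A (nf C.n C.w (V ++ U)).1 := ⟨_, rfl⟩
      rw [← hX] at e1 e2
      rw [commutatorElement_def, show pw A U * pw A V * (pw A U)⁻¹ * (pw A V)⁻¹ =
        pw A U * pw A V * (pw A V * pw A U)⁻¹ by group, e1, e2, mul_inv_rev,
        inv_eq_of_mul_eq_one_right (hinv _), hxor, mul_assoc, ← mul_assoc (fval T N _) (fval T N _),
        ← hxor, ← hcen, mul_inv_cancel_left]
    · simp at hf
  have hrelv : ∀ v ∈ C.vecs, fval T N v = 1 := by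
    intro v hv
    have hr := beq_iff_eq.1 hrels
    have hm : some v ∈ C.rels.map (TailRel.form C.n C.w) := hr ▸ List.mem_map.2 ⟨v, hv, rfl⟩
    obtain ⟨r, hrmem, hf⟩ := List.mem_map.1 hm
    cases r with
    | cons a b c =>
      exact fval_of_fact hc hsq hrel hN hker htwo (X := []) (Y := []) rfl
        (Fact.cons [a, b, c] 0 1)
        (fun _ _ _ _ h => by cases h) hT hf
    | fus k U V U' V' =>
      simp only [TailRel.form] at hf
      split at hf
      · next f₁ f₂ h₁ h₂ =>
        obtain rfl := Option.some.inj hf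
        obtain ⟨X, hX⟩ := hσ.1 (xs k)
        obtain ⟨e₁, e₂⟩ := hfus k U V U' V' hrmem
        have himg : ∀ {S S' : List ℕ}, xs k * pw g S = pw g S' * xs k →
            σ (pw A S') = σ (X * pw A S * X⁻¹) := by
          intro S S' e
          rw [map_mul, map_mul, map_inv, hσw, hσw, hX, e, mul_inv_cancel_right]
        have h3 : ⁅pw A U', pw A V'⁆ = ⁅X * pw A U * X⁻¹, X * pw A V * X⁻¹⁆ :=
          Multiplier.commutator_congr hker (himg e₁) (himg e₂)
        rw [← Multiplier.conj_commutator, hcomm U V f₁ h₁, hcen, mul_inv_cancel_right,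
          hcomm U' V' f₂ h₂] at h3
        rw [hxor, h3, hinv]
      · simp at hf
  have hselSum : ∀ (vs : List ℕ) (c : ℕ), (∀ v ∈ vs, fval T N v = 1) →
      fval T N (selSum vs c) = 1 := by
    intro vs
    induction vs with
    | nil => intro c _; rw [selSum, fval_zero]
    | cons v vs ih =>
      intro c hvs
      rw [selSum, hxor, ih _ fun u hu => hvs u (List.mem_cons_of_mem _ hu), mul_one]
      cases c.testBit 0
      · exact fval_zero N
      · exact hvs v List.mem_cons_self
  have hgood : ∀ a b, a < C.n → b ≤ a → (a ≠ b ∨ C.d ≤ a) → A a * A b = pw A (rep C.n C.w a b) := by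
    intro a b ha hb hor
    rcases (htails a ha b (by omega)).2 with ⟨h1, h2⟩ | hk
    · omega
    · simp only [TailData.knownTail, List.any_eq_true, Bool.and_eq_true, beq_iff_eq] at hk
      obtain ⟨e, -, he1, he2⟩ := hk
      have h3 : fval T N ((1 <<< tidx a b) ^^^ selSum C.vecs e.2) = 1 :=
        fval_eq_one N _ fun j hj hb' => hinitT j hj (by rw [← he2, Nat.testBit_or, hb']; rfl)
      rw [hxor, hselSum _ _ hrelv, mul_one, fval_bit (hN a b ha hb)] at h3
      rw [hrel a b ha hb, h3, mul_one]
  have hlet : ∀ a b, a < C.n → b ≤ a → ∀ i ∈ letters C.n (C.w.getD (tidx a b) 0), a < i ∧ C.d ≤ i :=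
    fun a b ha hb i hi => (htails a ha b (by omega)).1.2 i hi
  -- the derived group of the preimage
  obtain ⟨M, hMdef⟩ : ∃ M, M = Subgroup.closure (A '' {i | C.d ≤ i ∧ i < C.n}) := ⟨_, rfl⟩
  have hmemM : ∀ i, C.d ≤ i → i < C.n → A i ∈ M := fun i h1 h2 =>
    hMdef ▸ Subgroup.subset_closure ⟨i, ⟨h1, h2⟩, rfl⟩
  have hletM : ∀ a b, a < C.n → b ≤ a → pw A (letters C.n (C.w.getD (tidx a b) 0)) ∈ M := by
    intro a b ha hb
    refine Subgroup.list_prod_mem M fun y hy => ?_
    obtain ⟨i, hi, rfl⟩ := List.mem_map.1 hy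
    exact hmemM i (hlet a b ha hb i hi).2 (List.mem_range.1 (List.mem_filter.1 hi).1)
  have hconj : ∀ i j, i < j → j < C.n →
      A j * A i = A i * A j * pw A (letters C.n (C.w.getD (tidx j i) 0)) := by
    intro i j hij hj
    rw [hgood j i hj hij.le (Or.inl (by omega)), rep, if_neg (by omega), pw_cons, pw_cons,
      mul_assoc]
  have hnM : ∀ i < C.n, A i ∈ Subgroup.normalizer (M : Set Γ) := by
    intro i hi
    rcases Nat.lt_or_ge i C.d with hid | hid
    · rw [← inv_mem_iff]
      refine PcTrivial.mem_normalizer_of_conj _ _ fun y hy => ?_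
      rw [hMdef] at hy
      induction hy using Subgroup.closure_induction with
      | mem y hy =>
        obtain ⟨j, ⟨hdj, hj⟩, rfl⟩ := hy
        rw [inv_inv, mul_assoc, hconj i j (by omega) hj, mul_assoc, inv_mul_cancel_left]
        exact mul_mem (hmemM j hdj hj) (hletM j i hj (by omega))
      | one => simp
      | mul x y _ _ hx hy =>
        have := mul_mem hx hy
        rwa [show (A i)⁻¹ * x * (A i)⁻¹⁻¹ * ((A i)⁻¹ * y * (A i)⁻¹⁻¹) =
          (A i)⁻¹ * (x * y) * (A i)⁻¹⁻¹ by group] at this
      | inv x _ hx =>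
        have := inv_mem hx
        rwa [show ((A i)⁻¹ * x * (A i)⁻¹⁻¹)⁻¹ = (A i)⁻¹ * x⁻¹ * (A i)⁻¹⁻¹ by group] at this
    · exact Subgroup.le_normalizer (hmemM i hid hi)
  let S : Set Γ := (A '' {i | i < C.n}) ∪ (σ.ker : Set Γ)
  have hle := Multiplier.ker_le_commutator_closure hσ Nat.prime_two hK S Set.subset_union_right
    (Subgroup.closure {y | ∃ j < C.n, y = g j}) (by
      rw [Subgroup.closure_le]
      rintro _ ⟨j, hj, rfl⟩
      exact ⟨A j, Subgroup.subset_closure (Or.inl ⟨j, hj, rfl⟩), hA j⟩) hidx
  have hgen : ∀ i j, i < j → j < C.n → ⁅A j, A i⁆ ∈ M := by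
    intro i j hij hj
    rw [commutatorElement_def, hconj i j hij hj,
      show A i * A j * pw A (letters C.n (C.w.getD (tidx j i) 0)) * (A j)⁻¹ * (A i)⁻¹ =
        (A i * A j) * pw A (letters C.n (C.w.getD (tidx j i) 0)) * (A i * A j)⁻¹ by group]
    exact (Subgroup.mem_normalizer_iff.1 (mul_mem (hnM i (by omega)) (hnM j hj)) _).1
      (hletM j i hj hij.le)
  have hM := Multiplier.commutator_closure_le S M (fun s hs t ht => by
    rcases hs with ⟨i, hi, rfl⟩ | hs
    · rcases ht with ⟨j, hj, rfl⟩ | ht
      · rcases lt_trichotomy i j with h | rfl | h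
        · rw [← commutatorElement_inv]; exact inv_mem (hgen i j h hj)
        · rw [commutatorElement_self]; exact one_mem _
        · exact hgen j i h hi
      · rw [commutatorElement_eq_one_iff_commute.2 (Subgroup.mem_center_iff.1 (hker ht) _)]
        exact one_mem _
    · rw [commutatorElement_eq_one_iff_commute.2 (Subgroup.mem_center_iff.1 (hker hs) _).symm]
      exact one_mem _) (fun s hs m hm => by
    rcases hs with ⟨i, hi, rfl⟩ | hs
    · exact (Subgroup.mem_normalizer_iff.1 (hnM i hi) m).1 hm
    · rw [← Subgroup.mem_center_iff.1 (hker hs) m, mul_inv_cancel_right]; exact hm)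
  have hbot : σ.ker = ⊥ := by
    rw [Subgroup.eq_bot_iff_forall]
    intro z hz
    rcases Nat.lt_or_ge C.d (C.n + 1) with hdn | hdn
    · obtain ⟨l, hl, rfl⟩ := normal_form_from (k₀ := C.d) (fun a b hkb ha hb =>
        hgood a b ha hb (Or.inr (by omega))) (fun a b ha hb i hi => (hlet a b ha hb i hi).1)
        (C.n - C.d) C.d le_rfl (by omega) z (hMdef ▸ hM (hle hz))
      cases l with
      | nil => rfl
      | cons i l =>
        exfalso
        have hi := List.mem_range'_1.1 (hl.subset List.mem_cons_self)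
        have h1 : σ (pw A (i :: l)) = 1 := hz
        rw [hσw, pw_cons] at h1
        refine hsep i hi.1 (by omega) ?_
        rw [eq_inv_of_mul_eq_one_left h1]
        refine inv_mem (Subgroup.list_prod_mem _ fun y hy => ?_)
        obtain ⟨j, hj, rfl⟩ := List.mem_map.1 hy
        have hij := List.rel_of_pairwise_cons (List.Pairwise.sublist hl List.pairwise_lt_range') hj
        have := List.mem_range'_1.1 (hl.subset (List.mem_cons_of_mem _ hj))
        exact Subgroup.subset_closure ⟨j, hij, by omega, rfl⟩
    · have hMb : M = ⊥ := by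
        rw [hMdef, eq_bot_iff, Subgroup.closure_le]
        rintro _ ⟨j, ⟨h1, h2⟩, rfl⟩
        omega
      exact Subgroup.mem_bot.1 (hMb ▸ hM (hle hz))
  rw [hbot, Subgroup.card_bot] at hK
  norm_num at hK

end Cfsg.Agent.Co2Mult
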