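/-
No stem extension of the stabiliser of the short vector with kernel of order 2.

Main result: `not_stem_two`.
-/
import Cfsg.Agent.Lib.Co2Mult.Base
import Cfsg.Agent.Lib.Co2Mult.TwoData

set_option autoImplicit false
set_option maxRecDepth 100000

open Cfsg Cfsg.Agent.Leech

namespace Cfsg.Agent.Co2Mult.Two

open Multiplier.TailCert PcCover

/-- The element effecting the `k`th fusion. -/
noncomputable def fusEl (k : ℕ) : CU :=
  match fusData.getD k ((0, 0), none) with
  | (a, none) => cuEl a
  | (a, some (b, _)) => cuEl a * xEl * cuEl b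

/-- The generators followed by the fusion elements. -/
noncomputable def gEl (i : ℕ) : CU :=
  if i < 18 then cuEl (genData.getD i (0, 0)) else fusEl (i - 18)

/-- The data of the generators. -/
def genL : List (ℕ × ℕ) := genData.map lane

/-- Words of generators. -/
def lettersOK (w : List ℕ) : Bool := w.all fun l => decide (l < 18)

/-- The rules hold. -/
def rulesOK : Bool :=
  (List.range 18).all fun a => (List.range (a + 1)).all fun b =>
    wordD genL [a, b] == wordD genL (rep 18 wData a b) &&
      (letters 18 (wData.getD (tidx a b) 0)).all (fun l => decide (a < l))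

/-- One conjugation by a fusion element. -/
def conjOK (k : ℕ) (which : ℕ) (U V : List ℕ) : Bool :=
  lettersOK U && lettersOK V &&
    match fusData.getD k ((0, 0), none) with
    | (a, none) => okU a && mulD (lane a) (wordD genL U) == mulD (wordD genL V) (lane a)
    | (a, some (b, cs)) =>
      let c := cs.getD which ((0, 0), (0, 0), (0, 0))
      let z := lane c.1
      let w := lane c.2.1
      let w' := lane c.2.2
      okU a && okU b && okA c.1 && okA c.2.1 && okA c.2.2 &&
        mulD (lane b) (wordD genL U) == mulD z (lane b) &&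
        mulD (lane a) w == mulD (wordD genL V) (lane a) &&
        mulD (lane m0Pair) w' == mulD w (lane m0Pair) && slideOK z w'

/-- The fusion relations hold. -/
def fusOK : Bool :=
  relsData.all fun r => match r with
    | .fus k A B A' B' => conjOK k 0 A A' && conjOK k 1 B B'
    | _ => true

theorem gens_check : genData.all okU = true ∧ genL.all canon = true ∧ genData.length = 18 := by
  decide +kernel
theorem defs_check : cert.defsOK = true := by decide +kernel
theorem relations_check : cert.relsOK = true := by decide +kernel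
theorem tails_check : cert.tailsOK = true := by decide +kernel
theorem rules_check : rulesOK = true := by decide +kernel
theorem fus_check : fusOK = true := by decide +kernel
theorem sep_check : ((List.range 18).all fun i =>
    sepOK genL i (sepData.getD i ([], [])).1 (sepData.getD i ([], [])).2) = true := by
  decide +kernel

theorem genL_length : genL.length = 18 := by rw [genL, List.length_map]; exact gens_check.2.2

theorem genL_getD {i : ℕ} (hi : i < 18) : genL.getD i oneD = lane (genData.getD i (0, 0)) := by
  rw [genL, List.getD_eq_getElem _ _ (by rw [List.length_map, gens_check.2.2]; exact hi),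
    List.getElem_map, List.getD_eq_getElem _ _ (by rw [gens_check.2.2]; exact hi)]

theorem mon_gEl : ∀ i < 18, Mon (gEl i : Co0) (genL.getD i oneD) := by
  intro i hi
  rw [gEl, if_pos hi, genL_getD hi]
  refine mon_cuEl (List.all_eq_true.1 gens_check.1 _ ?_)
  rw [List.getD_eq_getElem _ _ (by rw [gens_check.2.2]; exact hi)]
  exact List.getElem_mem _

theorem lettersOK_spec {w : List ℕ} (h : lettersOK w = true) : ∀ l ∈ w, l < 18 := fun l hl => by
  simpa using List.all_eq_true.1 h l hl

attribute [local irreducible] wordD mulD lane okU okA slideOK genL cuEl co0El xEl m0Pair fusData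

theorem conj_of_ok {k which : ℕ} {U V : List ℕ} (h : conjOK k which U V = true) :
    fusEl k * wp gEl U = wp gEl V * fusEl k := by
  simp only [conjOK, Bool.and_eq_true] at h
  obtain ⟨⟨hU, hV⟩, h⟩ := h
  have mU := mon_wp mon_gEl U (lettersOK_spec hU)
  have mV := mon_wp mon_gEl V (lettersOK_spec hV)
  refine Subtype.ext ?_
  rw [fusEl, Subgroup.coe_mul, Subgroup.coe_mul]
  rcases hd : fusData.getD k ((0, 0), none) with ⟨a, _ | ⟨b, cs⟩⟩
  · rw [hd] at h
    simp only [Bool.and_eq_true, beq_iff_eq] at h
    exact ((mon_cuEl h.1).mul mU).eq (h.2 ▸ mV.mul (mon_cuEl h.1))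
  · rw [hd] at h
    simp only [Bool.and_eq_true, beq_iff_eq] at h
    obtain ⟨⟨⟨⟨⟨⟨⟨⟨ha, hb⟩, hz⟩, hw⟩, hw'⟩, e1⟩, e2⟩, e3⟩, e4⟩ := h
    have mz := mon_co0El hz
    have mw := mon_co0El hw
    have mw' := mon_co0El hw'
    have h1 := ((mon_cuEl hb).mul mU).eq (e1 ▸ mz.mul (mon_cuEl hb))
    have h2 := ((mon_cuEl ha).mul mw).eq (e2 ▸ mV.mul (mon_cuEl ha))
    have h3 := ((mon_co0El okA_m0).mul mw').eq (e3 ▸ mw.mul (mon_co0El okA_m0))
    have h4 := xi_slide mz mw' e4
    rw [coe_m0] at h3
    dsimp only
    rw [Subgroup.coe_mul, Subgroup.coe_mul, coe_xEl, mul_assoc _ (cuEl b : Co0), h1, ← mul_assoc,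
      mul_assoc (cuEl a : Co0) (_ * _), mul_assoc (Co2Centralizer.monoEl 0), h4, ← mul_assoc _ _
      Co2Centralizer.xiEl, h3, mul_assoc _ (Co2Centralizer.monoEl 0), ← mul_assoc (cuEl a : Co0), h2]
    simp only [mul_assoc]

/-- The 2-part of the multiplier is trivial. -/
theorem not_stem_two {Γ : Type*} [Group Γ] [Finite Γ] (σ : Γ →* CU) (hσ : Cfsg.IsStemExtension σ) :
    Nat.card σ.ker ≠ 2 := by
  have hsep : ∀ i < 18, gEl i ∉ Subgroup.closure {y | ∃ j, i < j ∧ j < 18 ∧ y = gEl j} := by
    intro i hi
    have hs := List.all_eq_true.1 sep_check i (List.mem_range.2 hi)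
    have := not_mem_of_sep (L := genL) (g := gEl) (by rw [genL_length]; exact mon_gEl)
      (fun j hj => List.all_eq_true.1 gens_check.2.1 _ (by
        rw [List.getD_eq_getElem _ _ hj]; exact List.getElem_mem _))
      (by rw [genL_length]; exact hi) hs
    rwa [genL_length] at this
  have hrep : ∀ a b, a < 18 → b ≤ a →
      ∀ l ∈ rep 18 wData a b, l < 18 := by
    intro a b ha hb l hl
    rw [rep] at hl
    split at hl
    · exact List.mem_range.1 (List.mem_filter.1 hl).1
    · rcases List.mem_cons.1 hl with rfl | hl
      · omega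
      rcases List.mem_cons.1 hl with rfl | hl
      · exact ha
      · exact List.mem_range.1 (List.mem_filter.1 hl).1
  have hok := rules_check
  simp only [rulesOK, List.all_eq_true, List.mem_range, Bool.and_eq_true, beq_iff_eq,
    decide_eq_true_eq] at hok
  have hrules : ∀ a b, a < 18 → b ≤ a → pw gEl [a, b] = pw gEl (rep 18 wData a b) :=
    fun a b ha hb => wp_eq_of_word mon_gEl (fun l hl => by
      simp only [List.mem_cons, List.not_mem_nil, or_false] at hl
      rcases hl with rfl | rfl <;> omega) (hrep a b ha hb) (hok a ha b (by omega)).1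
  have hfus : ∀ k A B A' B', TailRel.fus k A B A' B' ∈ cert.rels →
      fusEl k * pw gEl A = pw gEl A' * fusEl k ∧ fusEl k * pw gEl B = pw gEl B' * fusEl k := by
    intro x A B A' B' hx
    have h := List.all_eq_true.1 fus_check _ hx
    simp only [Bool.and_eq_true] at h
    exact ⟨conj_of_ok h.1, conj_of_ok h.2⟩
  refine not_stem_two_of_cert cert gEl fusEl defs_check relations_check tails_check hrules hfus
    (fun i _ hi => hsep i hi) ?_ hσ
  intro hd
  have hcard := card_dvd_of_chain (n := 18) Nat.prime_two gEl
    (fun i hi => by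
      refine ⟨letters 18 (wData.getD (tidx i i) 0), ?_, fun l hl =>
        ⟨(hok i hi i (by omega)).2 l hl, List.mem_range.1 (List.mem_filter.1 hl).1⟩⟩
      have h := hrules i i hi le_rfl
      rw [rep, if_pos rfl] at h
      rw [pow_two]
      refine Eq.trans ?_ h
      simp [pw])
    (fun i j hij hj => by
      refine ⟨j :: letters 18 (wData.getD (tidx j i) 0), ?_, fun l hl => ?_⟩
      · have h := hrules j i hj hij.le
        rw [rep, if_neg (by omega), pw_cons, pw_cons, pw_cons, show pw gEl [] = 1 from rfl,
          mul_one] at h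
        rw [h]
        rfl
      · rcases List.mem_cons.1 hl with rfl | hl
        · exact ⟨hij, hj⟩
        · exact ⟨hij.trans ((hok j hj i (by omega)).2 l hl),
            List.mem_range.1 (List.mem_filter.1 hl).1⟩)
    hsep 18 0 rfl
  have e : {y : CU | ∃ j < cert.n, y = gEl j} = {y | ∃ j, 0 ≤ j ∧ j < 18 ∧ y = gEl j} :=
    Set.ext fun y => ⟨fun ⟨j, h1, h2⟩ => ⟨j, Nat.zero_le j, h1, h2⟩,
      fun ⟨j, _, h1, h2⟩ => ⟨j, h1, h2⟩⟩
  rw [e] at hd
  have h := Nat.mul_dvd_mul hcard hd
  rw [Subgroup.card_mul_index, natCard_CU] at h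
  exact absurd h (by decide)

end Cfsg.Agent.Co2Mult.Two
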